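import Groth.Agent.Sga4h.H925.Inv
import Mathlib.LinearAlgebra.Pi
import Mathlib.Data.Fintype.EquivFin

/-!
# Additive invariants of finite products
-/

set_option autoImplicit false

universe v w

namespace Groth.Agent.Sga4h.H146.InvPi

open Groth.Agent.Sga4h.H925.Inv
open scoped BigOperators

variable {Λ : Type} [Field Λ] {A : Type w} [AddCommGroup A] (χ : Inv.{v} Λ A)

theorem val_fin : ∀ (n : ℕ) (W : Fin n → Type v) [∀ j, AddCommGroup (W j)] [∀ j, Module Λ (W j)]
    [∀ j, FiniteDimensional Λ (W j)] (ψ : ∀ j, W j →ₗ[Λ] W j) (φ : (∀ j, W j) →ₗ[Λ] (∀ j, W j))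
    (_ : ∀ x j, φ x j = ψ j (x j)), χ.val (∀ j, W j) φ = ∑ j, χ.val (W j) (ψ j) := by
  intro n
  induction n with
  | zero =>
    intro W _ _ _ ψ φ _
    have : Subsingleton (∀ j, W j) := inferInstance
    rw [χ.val_subsingleton]
    simp
  | succ n ih =>
    intro W _ _ _ ψ φ h
    let W' : Fin n → Type v := fun j => W j.succ
    let i : (∀ j, W' j) →ₗ[Λ] (∀ j, W j) :=
      LinearMap.pi (Fin.cons 0 fun j => LinearMap.proj j)
    have hi0 : ∀ x, i x 0 = 0 := fun x => rfl
    have his : ∀ x (j : Fin n), i x j.succ = x j := fun x j => rfl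
    let φ₁ : (∀ j, W' j) →ₗ[Λ] (∀ j, W' j) := LinearMap.pi fun j => ψ j.succ ∘ₗ LinearMap.proj j
    have h1 := χ.exact (∀ j, W' j) (∀ j, W j) (W 0) i (LinearMap.proj 0) φ₁ φ (ψ 0) ?_ ?_ ?_ ?_ ?_
    · rw [h1, ih W' (fun j => ψ j.succ) φ₁ (fun x j => rfl), Fin.sum_univ_succ, add_comm]
    · intro x y hxy
      funext j
      rw [← his x j, ← his y j, hxy]
    · exact fun y => ⟨Pi.single 0 y, by simp⟩
    · intro y
      constructor
      · intro hy
        refine ⟨fun j => y j.succ, funext fun j => ?_⟩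
        refine Fin.cases ?_ (fun j => ?_) j
        · exact (hi0 _).trans hy.symm
        · exact his _ j
      · rintro ⟨x, rfl⟩
        exact hi0 x
    · refine LinearMap.ext fun x => funext fun j => ?_
      refine Fin.cases ?_ (fun j => ?_) j
      · change i (φ₁ x) 0 = φ (i x) 0
        rw [h, hi0, hi0, map_zero]
      · change i (φ₁ x) j.succ = φ (i x) j.succ
        rw [h, his, his]
        rfl
    · refine LinearMap.ext fun x => ?_
      exact h x 0

/-- An additive invariant of a finite product. -/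
theorem val_pi {J : Type*} [Finite J] (V : Type v) [AddCommGroup V] [Module Λ V] [FiniteDimensional Λ V]
    (W : J → Type v) [∀ j, AddCommGroup (W j)] [∀ j, Module Λ (W j)] (e : ∀ j, V →ₗ[Λ] W j)
    (he : Function.Bijective fun (x : V) (j : J) => e j x) (φ : V →ₗ[Λ] V) (ψ : ∀ j, W j →ₗ[Λ] W j)
    (h : ∀ j x, e j (φ x) = ψ j (e j x)) : χ.val V φ = ∑ᶠ j, χ.val (W j) (ψ j) := by
  classical
  cases nonempty_fintype J
  have hsurj : ∀ j, Function.Surjective (e j) := by
    intro j y
    obtain ⟨x, hx⟩ := he.2 (Pi.single j y)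
    exact ⟨x, (congrFun hx j).trans (by simp)⟩
  have hfd : ∀ j, FiniteDimensional Λ (W j) := fun j => Module.Finite.of_surjective (e j) (hsurj j)
  let c := (Fintype.equivFin J).symm
  let W' : Fin (Fintype.card J) → Type v := fun i => W (c i)
  let E : V ≃ₗ[Λ] (∀ i, W' i) := LinearEquiv.ofBijective (LinearMap.pi fun i => e (c i)) (by
    constructor
    · intro x y hxy
      apply he.1
      funext j
      obtain ⟨i, rfl⟩ := c.surjective j
      exact congrFun hxy i
    · intro y
      obtain ⟨x, hx⟩ := he.2 (fun j => (c.apply_symm_apply j) ▸ y (c.symm j))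
      refine ⟨x, funext fun i => ?_⟩
      have h1 := congrFun hx (c i)
      refine h1.trans ?_
      have h2 : ∀ (i' : Fin (Fintype.card J)) (hi : i' = i) (hc : c i' = c i), (hc ▸ y i' : W (c i)) = y i := by
        rintro i' rfl hc
        rfl
      exact h2 _ (c.symm_apply_apply i) (c.apply_symm_apply (c i)))
  have hE : ∀ x i, E x i = e (c i) x := fun x i => rfl
  let Φ : (∀ i, W' i) →ₗ[Λ] (∀ i, W' i) := LinearMap.pi fun i => ψ (c i) ∘ₗ LinearMap.proj i
  have h3 : χ.val V φ = χ.val (∀ i, W' i) Φ := by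
    refine χ.val_congr E φ Φ fun x => funext fun i => ?_
    rw [hE, h]
    rfl
  rw [h3, val_fin χ _ W' (fun i => ψ (c i)) Φ (fun x i => rfl), finsum_eq_sum_of_fintype]
  exact c.sum_comp (fun j => χ.val (W j) (ψ j))

end Groth.Agent.Sga4h.H146.InvPi
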