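import Groth.Agent.Sga4h.H146.FinBij
import Groth.Agent.Sga4h.H146.InvPi
import Groth.Agent.Sga4h.H925.Defs
import Groth.Agent.Sga4h.H927.PtFin
import Groth.Agent.Etcore.PunctualH0
import Groth.Agent.S0127

/-!
# The global side for a scheme `P` finite over a finite field is the sum of the local terms

For every additive invariant `χ`:
* `subsingleton_HK`: `H^i(P_K, L) = 0` for `i > 0`;
* `finite_HK`: `H^0(P_K, L)` is finite for `L` constructible;
* `glob_fin`: `glob K χ b L = ∑ᶠ x : P, locV K χ b x L`;
* `defect_fin`: `defect K χ b N L = 0` if the local terms of degree `> N` vanish.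
-/

set_option autoImplicit false
universe u w

open CategoryTheory CategoryTheory.Limits AlgebraicGeometry Opposite

namespace Groth.Agent.Sga4h.H146.FinSum

open Groth.Agent.Sga4h.H927 Groth.Agent.Sga4h.H927.HMod Groth.Agent.Sga4h.H927.FrobFix
open Groth.Agent.Sga4h.H146.FinRes Groth.Agent.Sga4h.H146.FinPt Groth.Agent.Sga4h.H146.FinBij
open Groth.Agent.Sga4h.H925.Defs Groth.Agent.Sga4h.H925.Inv Groth.Agent.Etcore.EtInst
open scoped BigOperators

section fin

variable {k : Type u} [Field k] (K : Type u) [Field K] [Algebra k K] {Λ : Type} [CommRing Λ]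
  {P : Scheme.{u}} (b : P ⟶ Spec (CommRingCat.of k)) [IsFinite b] (L : EtLam.Sheaf Λ P)

theorem subsingleton_H_ext [IsSepClosed K] (F : EtCoh.Ab (FinFr.ext K b)) (i : ℕ) (hi : 0 < i) :
    Subsingleton (EtCoh.H (FinFr.ext K b) F i) :=
  PtFin.subsingleton_H (FinFr.extStr K b) F i hi

theorem subsingleton_HK [IsSepClosed K] (i : ℕ) (hi : 0 < i) : Subsingleton (HK K b L i) :=
  subsingleton_H_ext K b (EtLam.pullback (FinFr.extπ K b) L).carrier i hi

theorem finite_H_ext (F : EtCoh.Ab P) (hF : EtPBC.IsConstructible F) :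
    Finite (EtCoh.H (FinFr.ext K b) ((EtCoh.pull (FinFr.extπ K b)).obj F) 0) := by
  classical
  have h1 : EtPBC.IsConstructible ((EtCoh.pull (FinFr.extπ K b)).obj F) := Groth.Agent.S0127.result (FinFr.extπ K b) F hF
  have h2 : Finite (FinFr.ext K b) := finite_points (FinFr.extStr K b)
  cases nonempty_fintype (FinFr.ext K b)
  exact Groth.Agent.Etcore.PunctualH0.finite_H0_of_finite_supp Finset.univ _ (by simp)
    (fun x => Groth.Agent.Etcore.PunctualH0.exists_finite_stalk h1 x)

theorem finite_HM (hL : EtPBC.IsConstructible L.carrier) :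
    Finite (HM (EtLam.pullback (FinFr.extπ K b) L) 0) :=
  finite_H_ext K b L.carrier hL

end fin

section main

variable {k : Type u} [Field k] [Fintype k] (K : Type u) [Field K] [Algebra k K]
  [Algebra.IsAlgebraic k K] [Fact FinFr.PullExact.{u}] {Λ : Type} [Field Λ] {A : Type w} [AddCommGroup A]
  (χ : Inv.{u + 1} Λ A) {P : Scheme.{u}} (b : P ⟶ Spec (CommRingCat.of k)) (L : EtLam.Sheaf Λ P)

/-- The value of an additive invariant on the Frobenius, in terms of the sealed modules. -/
theorem val_frobK (n : ℕ) : χ.val (HK K b L n) (frobK K b L n) =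
    χ.val (HM (EtLam.pullback (FinFr.extπ K b) L) n) (galHM b (FinFr.arith k K).symm L n) := rfl

theorem locV_eq (x : P) : locV K χ b x L = χ.val (W K b L x)
    (galHM (P.fromSpecResidueField x ≫ b) (FinFr.arith k K).symm
      (EtLam.pullback (P.fromSpecResidueField x) L) 0) :=
  val_frobK K χ (P.fromSpecResidueField x ≫ b) (EtLam.pullback (P.fromSpecResidueField x) L) 0

variable [IsAlgClosed K] [IsFinite b]

theorem glob_eq : glob K χ b L = χ.val (HK K b L 0) (frobK K b L 0) := by
  unfold glob
  rw [χ.alt_eq_sum _ _ 1 (fun n hn => subsingleton_HK K b L n hn)]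
  simp

theorem val_galHM (hL : EtPBC.IsConstructible L.carrier) :
    χ.val (HM (EtLam.pullback (FinFr.extπ K b) L) 0) (galHM b (FinFr.arith k K).symm L 0) =
      ∑ᶠ x : P, χ.val (W K b L x) (galHM (P.fromSpecResidueField x ≫ b) (FinFr.arith k K).symm
        (EtLam.pullback (P.fromSpecResidueField x) L) 0) := by
  have h1 : Finite P := finite_points b
  have h2 := finite_HM K b L hL
  exact InvPi.val_pi χ _ (fun x => W K b L x) (fun x => resP b (P.fromSpecResidueField x) L 0)
    (bijective_resP_pi K b L) _ _ (fun x v => resP_galHM b (P.fromSpecResidueField x) L 0 _ v)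

/-- The global side is the sum of the local terms. -/
theorem glob_fin (hL : EtPBC.IsConstructible L.carrier) :
    glob K χ b L = ∑ᶠ x : P, locV K χ b x L := by
  rw [glob_eq, val_frobK, val_galHM K χ b L hL]
  exact finsum_congr fun x => (locV_eq K χ b L x).symm

/-- The defect vanishes in dimension zero. -/
theorem defect_fin (hL : EtPBC.IsConstructible L.carrier) (N : ℕ)
    (hloc : ∀ x : P, N < FinFr.ptDeg b x → locV K χ b x L = 0) : defect K χ b N L = 0 := by
  rw [defect, sub_eq_zero, glob_fin K χ b L hL, loc]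
  let g : {x : FinFr.ClosedPt P // FinFr.ptDeg b x.1 ≤ N} → P := fun x => x.1.1
  have hg : Function.Injective g := fun x y h => Subtype.ext (Subtype.ext h)
  have h1 := finsum_mem_range (f := fun x : P => locV K χ b x L) hg
  refine Eq.trans ?_ h1
  rw [← finsum_mem_univ]
  refine finsum_mem_inter_support_eq _ _ _ ?_
  ext x
  simp only [Set.mem_inter_iff, Set.mem_univ, true_and, Function.mem_support, ne_eq, Set.mem_range]
  constructor
  · intro hx
    refine ⟨⟨⟨⟨x, isClosed_singleton b x⟩, ?_⟩, rfl⟩, hx⟩
    by_contra h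
    exact hx (hloc x (not_le.1 h))
  · exact fun hx => hx.2

end main

end Groth.Agent.Sga4h.H146.FinSum
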