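import Groth.Agent.Sga4h.H927.FrobFix
import Groth.Agent.Etbase.FinLiftSch
import Mathlib.AlgebraicGeometry.Artinian
import Mathlib.AlgebraicGeometry.Morphisms.QuasiFinite

/-!
# Geometric points of a scheme `P` finite over a field, sorted by the points of `P`
-/

set_option autoImplicit false
universe u

open CategoryTheory CategoryTheory.Limits AlgebraicGeometry Opposite

namespace Groth.Agent.Sga4h.H146.FinPt

open Groth.Agent.Sga4h.H927.FrobFix

variable {k : Type u} [Field k] {P : Scheme.{u}} (b : P ⟶ Spec (CommRingCat.of k))

theorem isArtinianScheme [IsFinite b] : IsArtinianScheme P := by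
  have h1 : IsLocallyArtinian P := IsLocallyArtinian.of_locallyQuasiFinite b
  have h2 : IsAffine P := isAffine_of_isAffineHom b
  exact { toIsLocallyArtinian := h1, toCompactSpace := inferInstance }

theorem discreteTopology [IsFinite b] : DiscreteTopology P := by
  have := isArtinianScheme b
  infer_instance

theorem finite_points [IsFinite b] : Finite P := by
  have := isArtinianScheme b
  infer_instance

theorem isClosed_singleton [IsFinite b] (x : P) : IsClosed ({x} : Set P) := by
  have := discreteTopology b
  exact isClosed_discrete _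

instance isFinite_comp [IsFinite b] (x : P) : IsFinite (P.fromSpecResidueField x ≫ b) := by
  have h1 : IsClosedImmersion (P.fromSpecResidueField x) :=
    isClosed_singleton_iff_isClosedImmersion.1 (isClosed_singleton b x)
  infer_instance

variable (K : Type u) [Field K] [Algebra k K]

/-- The geometric points of `P`, sorted by their image. -/
noncomputable def sigPt (z : Σ x : P, KPt K (P.fromSpecResidueField x ≫ b)) : KPt K b :=
  ⟨z.2.1 ≫ P.fromSpecResidueField z.1, by rw [Category.assoc]; exact z.2.2⟩

theorem sigPt_apply (z : Σ x : P, KPt K (P.fromSpecResidueField x ≫ b)) (t : Spec (CommRingCat.of K)) :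
    (sigPt b K z).1 t = z.1 := by
  change (z.2.1 ≫ P.fromSpecResidueField z.1) t = z.1
  rw [Scheme.Hom.comp_apply, Scheme.fromSpecResidueField_apply]

theorem bijective_sigPt : Function.Bijective (sigPt b K) := by
  constructor
  · rintro ⟨x, ξ⟩ ⟨y, η⟩ h
    have hxy : x = y := by
      have t : Spec (CommRingCat.of K) := default
      have h1 := sigPt_apply b K ⟨x, ξ⟩ t
      have h2 := sigPt_apply b K ⟨y, η⟩ t
      rw [h] at h1
      exact h1.symm.trans h2
    subst hxy
    have h2 : ξ = η := by
      apply Subtype.ext
      rw [← cancel_mono (P.fromSpecResidueField x)]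
      exact congrArg Subtype.val h
    rw [h2]
  · intro ξ
    obtain ⟨⟨x, φ⟩, hx⟩ := (Scheme.SpecToEquivOfField K P).symm.surjective ξ.1
    have hx' : Spec.map φ ≫ P.fromSpecResidueField x = ξ.1 := hx
    refine ⟨⟨x, ⟨Spec.map φ, ?_⟩⟩, Subtype.ext hx'⟩
    rw [← Category.assoc, hx']
    exact ξ.2

end Groth.Agent.Sga4h.H146.FinPt
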