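import Groth.Agent.Sga4h.H146.FinRes
import Groth.Agent.Sga4h.H146.FinPt

/-!
# `H⁰(P_K, L) = ∏_x H⁰(κ(x)_K, L_x)` for `P` finite over a field
-/

set_option autoImplicit false
universe u

open CategoryTheory CategoryTheory.Limits AlgebraicGeometry Opposite

namespace Groth.Agent.Sga4h.H146.FinBij

open Groth.Agent.Sga4h.H927 Groth.Agent.Sga4h.H927.HMod Groth.Agent.Sga4h.H927.FrobFix
  Groth.Agent.Sga4h.H927.PtH0 Groth.Agent.Sga4h.H927.PtTrace
open Groth.Agent.Sga4h.H146.FinRes Groth.Agent.Sga4h.H146.FinPt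

variable {Λ : Type} [CommRing Λ] {k : Type u} [Field k] (K : Type u) [Field K] [Algebra k K]
variable {P : Scheme.{u}} (b : P ⟶ Spec (CommRingCat.of k)) (L : EtLam.Sheaf Λ P)

/-- The fibre at a point, sealed. -/
noncomputable abbrev W (x : P) : ModuleCat.{u + 1} Λ :=
  HM (EtLam.pullback (FinFr.extπ K (P.fromSpecResidueField x ≫ b))
    (EtLam.pullback (P.fromSpecResidueField x) L)) 0

/-- The fibre at a geometric point, sealed. -/
noncomputable abbrev V (ξ : KPt K b) : ModuleCat.{u + 1} Λ := HM (EtLam.pullback ξ.1 L) 0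

/-- Restriction of a class at `x` to a geometric point above `x`. -/
noncomputable def gmap (x : P) (ξ : KPt K (P.fromSpecResidueField x ≫ b)) :
    W K b L x →ₗ[Λ] V K b L (sigPt b K ⟨x, ξ⟩) :=
  chgHM ξ.1 (P.fromSpecResidueField x) (sigPt b K ⟨x, ξ⟩).1 rfl L 0 ∘ₗ
    toPt (P.fromSpecResidueField x ≫ b) (EtLam.pullback (P.fromSpecResidueField x) L) 0 ξ

theorem gmap_resP (x : P) (ξ : KPt K (P.fromSpecResidueField x ≫ b))
    (v : HM (EtLam.pullback (FinFr.extπ K b) L) 0) :
    toPt b L 0 (sigPt b K ⟨x, ξ⟩) v = gmap K b L x ξ (resP b (P.fromSpecResidueField x) L 0 v) :=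
  toPt_pushPt b (P.fromSpecResidueField x) L 0 ξ v

theorem bijective_gmap [IsAlgClosed K] [IsFinite b] (x : P) :
    Function.Bijective (fun (w : W K b L x) (ξ : KPt K (P.fromSpecResidueField x ≫ b)) =>
      gmap K b L x ξ w) := by
  have h1 := bijective_toPt (K := K) (P.fromSpecResidueField x ≫ b)
    (EtLam.pullback (P.fromSpecResidueField x) L)
  have h2 : Function.Bijective (Pi.map
      (fun ξ : KPt K (P.fromSpecResidueField x ≫ b) =>
        (fun w => chgHM ξ.1 (P.fromSpecResidueField x) (sigPt b K ⟨x, ξ⟩).1 rfl L 0 w))) :=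
    Function.Bijective.piMap fun ξ => bijective_chgHM _ _ _ _ L 0
  exact h2.comp h1

theorem bijective_G [IsAlgClosed K] [IsFinite b] :
    Function.Bijective (fun (w : ∀ x : P, W K b L x)
      (z : Σ x : P, KPt K (P.fromSpecResidueField x ≫ b)) => gmap K b L z.1 z.2 (w z.1)) := by
  have h1 : Function.Bijective (Pi.map (fun x : P => (fun (w : W K b L x)
      (ξ : KPt K (P.fromSpecResidueField x ≫ b)) => gmap K b L x ξ w))) :=
    Function.Bijective.piMap fun x => bijective_gmap K b L x
  exact ((Equiv.piCurry (fun (x : P) (ξ : KPt K (P.fromSpecResidueField x ≫ b)) =>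
    (V K b L (sigPt b K ⟨x, ξ⟩) : Type (u + 1)))).symm.bijective).comp h1

theorem bijective_F [IsAlgClosed K] [IsFinite b] :
    Function.Bijective (fun (v : HM (EtLam.pullback (FinFr.extπ K b) L) 0)
      (z : Σ x : P, KPt K (P.fromSpecResidueField x ≫ b)) => toPt b L 0 (sigPt b K z) v) := by
  have h1 := bijective_toPt (K := K) b L
  let e := Equiv.ofBijective _ (bijective_sigPt b K)
  exact ((Equiv.piCongrLeft (fun ξ : KPt K b => (V K b L ξ : Type (u + 1))) e).symm.bijective).comp h1

theorem bijective_resP_pi [IsAlgClosed K] [IsFinite b] :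
    Function.Bijective (fun (v : HM (EtLam.pullback (FinFr.extπ K b) L) 0) (x : P) =>
      (resP b (P.fromSpecResidueField x) L 0 v : W K b L x)) := by
  have h1 := bijective_F K b L
  have h2 := bijective_G K b L
  refine (Function.Bijective.of_comp_iff' h2 _).1 ?_
  have h3 : (fun (w : ∀ x : P, W K b L x)
      (z : Σ x : P, KPt K (P.fromSpecResidueField x ≫ b)) => gmap K b L z.1 z.2 (w z.1)) ∘
      (fun (v : HM (EtLam.pullback (FinFr.extπ K b) L) 0) (x : P) =>
      (resP b (P.fromSpecResidueField x) L 0 v : W K b L x)) =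
      (fun (v : HM (EtLam.pullback (FinFr.extπ K b) L) 0)
      (z : Σ x : P, KPt K (P.fromSpecResidueField x ≫ b)) => toPt b L 0 (sigPt b K z) v) := by
    funext v z
    exact (gmap_resP K b L z.1 z.2 v).symm
  rw [h3]
  exact h1

end Groth.Agent.Sga4h.H146.FinBij
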