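import Groth.Agent.Sga4h.H927.PtTrace

/-!
# Restriction of cohomology along a `k`-morphism `i : Q ⟶ P` and the action of Galois

`resP b i L n : H^n(P_K, π⁻¹ L) ⟶ H^n(Q_K, π⁻¹ i⁻¹ L)`, commutes with Galois (`resP_galHM`) and with the restriction
to `K`-points (`toPt_push`).
-/

set_option autoImplicit false
universe u

open CategoryTheory CategoryTheory.Limits AlgebraicGeometry Opposite

namespace Groth.Agent.Sga4h.H146.FinRes

open Groth.Agent.Sga4h.H927 Groth.Agent.Sga4h.H927.HMod Groth.Agent.Sga4h.H927.FrobFix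
  Groth.Agent.Sga4h.H927.PtH0 Groth.Agent.Sga4h.H927.PtTrace

variable {Λ : Type} [CommRing Λ] {k : Type u} [Field k] {K : Type u} [Field K] [Algebra k K]
variable {P Q : Scheme.{u}} (b : P ⟶ Spec (CommRingCat.of k)) (i : Q ⟶ P)

/-- Base change of `i` to `K`. -/
noncomputable abbrev iK : FinFr.ext K (i ≫ b) ⟶ FinFr.ext K b := FinFr.extHom (K := K) (i ≫ b) i rfl

theorem iK_extπ : iK (K := K) b i ≫ FinFr.extπ K b = FinFr.extπ K (i ≫ b) ≫ i := FinFr.extHom_fst (i ≫ b) i rfl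

theorem iK_extStr : iK (K := K) b i ≫ FinFr.extStr K b = FinFr.extStr K (i ≫ b) :=
  (pullback.lift_snd _ _ _).trans (Category.comp_id _)

theorem galAct_iK (σ : K ≃ₐ[k] K) :
    FinFr.galAct (i ≫ b) σ ≫ iK b i = iK b i ≫ FinFr.galAct b σ := by
  apply pullback.hom_ext
  · have h1 := FinFr.galAct_fst b σ
    have h2 := FinFr.galAct_fst (i ≫ b) σ
    have h3 := iK_extπ (K := K) b i
    rw [Category.assoc, Category.assoc]
    refine (congrArg (_ ≫ ·) h3).trans ?_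
    refine Eq.trans ?_ (congrArg (iK b i ≫ ·) h1).symm
    refine Eq.trans ?_ h3.symm
    rw [← Category.assoc]
    exact congrArg (· ≫ i) h2
  · have h1 := FinFr.galAct_snd b σ
    have h2 := FinFr.galAct_snd (i ≫ b) σ
    have h3 := iK_extStr (K := K) b i
    rw [Category.assoc, Category.assoc]
    refine (congrArg (_ ≫ ·) h3).trans ?_
    refine Eq.trans ?_ (congrArg (iK b i ≫ ·) h1).symm
    refine h2.trans ?_
    rw [← Category.assoc]
    exact congrArg (· ≫ _) h3.symm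

variable (L : EtLam.Sheaf Λ P) (n : ℕ)

/-- The comparison isomorphism. -/
noncomputable def chgE : HM (EtLam.pullback (FinFr.extπ K (i ≫ b)) (EtLam.pullback i L)) n ≃ₗ[Λ]
    HM (EtLam.pullback (FinFr.extπ K (i ≫ b) ≫ i) L) n :=
  LinearEquiv.ofBijective (chgHM (FinFr.extπ K (i ≫ b)) i (FinFr.extπ K (i ≫ b) ≫ i) rfl L n)
    (bijective_chgHM _ _ _ _ L n)

theorem chgE_apply (x : HM (EtLam.pullback (FinFr.extπ K (i ≫ b)) (EtLam.pullback i L)) n) :
    chgE b i L n x = chgHM (FinFr.extπ K (i ≫ b)) i (FinFr.extπ K (i ≫ b) ≫ i) rfl L n x := rfl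

/-- Restriction, in terms of `L` on `P`. -/
noncomputable def toM : HM (EtLam.pullback (FinFr.extπ K b) L) n →ₗ[Λ]
    HM (EtLam.pullback (FinFr.extπ K (i ≫ b) ≫ i) L) n :=
  viaHM (iK b i) (FinFr.extπ K b) (FinFr.extπ K (i ≫ b) ≫ i) (iK_extπ b i) L n

/-- Restriction along `i`. -/
noncomputable def resP : HM (EtLam.pullback (FinFr.extπ K b) L) n →ₗ[Λ]
    HM (EtLam.pullback (FinFr.extπ K (i ≫ b)) (EtLam.pullback i L)) n :=
  (chgE (K := K) b i L n).symm.toLinearMap ∘ₗ toM b i L n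

theorem chgE_resP (x : HM (EtLam.pullback (FinFr.extπ K b) L) n) :
    chgE b i L n (resP b i L n x) = toM b i L n x :=
  (chgE b i L n).apply_symm_apply _

/-- Restriction commutes with Galois. -/
theorem resP_galHM [Fact FinFr.PullExact.{u}] (σ : K ≃ₐ[k] K) (x : HM (EtLam.pullback (FinFr.extπ K b) L) n) :
    resP b i L n (galHM b σ L n x) = galHM (i ≫ b) σ (EtLam.pullback i L) n (resP b i L n x) := by
  apply (chgE b i L n).injective
  have hg : FinFr.galAct (i ≫ b) σ ≫ FinFr.extπ K (i ≫ b) ≫ i = FinFr.extπ K (i ≫ b) ≫ i := by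
    rw [← Category.assoc]
    exact congrArg (· ≫ i) (FinFr.galAct_fst (i ≫ b) σ)
  have h1 := viaHM_chg_apply (FinFr.galAct (i ≫ b) σ) (FinFr.extπ K (i ≫ b)) i (FinFr.extπ K (i ≫ b))
    (FinFr.extπ K (i ≫ b) ≫ i) (FinFr.extπ K (i ≫ b) ≫ i) (FinFr.galAct_fst (i ≫ b) σ) rfl hg rfl L n
    (resP b i L n x)
  rw [chgE_resP, galHM_eq, galHM_eq, chgE_apply, ← h1, ← chgE_apply, chgE_resP]
  unfold toM
  have hw : (iK b i ≫ FinFr.galAct b σ) ≫ FinFr.extπ K b = FinFr.extπ K (i ≫ b) ≫ i := by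
    rw [Category.assoc]
    exact (congrArg (iK b i ≫ ·) (FinFr.galAct_fst b σ)).trans (iK_extπ b i)
  refine (viaHM_comp_apply (iK b i) (FinFr.galAct b σ) (iK b i ≫ FinFr.galAct b σ)
    (FinFr.extπ K (i ≫ b) ≫ i) (FinFr.extπ K b) (FinFr.extπ K b) rfl (iK_extπ b i) (FinFr.galAct_fst b σ)
    hw L n x).trans ?_
  exact (viaHM_comp_apply (FinFr.galAct (i ≫ b) σ) (iK b i) (iK b i ≫ FinFr.galAct b σ)
    (FinFr.extπ K (i ≫ b) ≫ i) (FinFr.extπ K (i ≫ b) ≫ i) (FinFr.extπ K b) (galAct_iK b i σ) hg (iK_extπ b i)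
    hw L n x).symm

/-- The image of a `K`-point. -/
noncomputable def pushPt (ξ : KPt K (i ≫ b)) : KPt K b := ⟨ξ.1 ≫ i, by rw [Category.assoc]; exact ξ.2⟩

theorem lf_iK (ξ : KPt K (i ≫ b)) : lf (i ≫ b) ξ ≫ iK b i = lf b (pushPt b i ξ) := by
  apply pullback.hom_ext
  · rw [Category.assoc]
    refine (congrArg (_ ≫ ·) (iK_extπ b i)).trans ?_
    rw [← Category.assoc]
    exact (congrArg (· ≫ i) (lf_extπ (i ≫ b) ξ)).trans (lf_extπ b (pushPt b i ξ)).symm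
  · rw [Category.assoc]
    refine (congrArg (_ ≫ ·) (iK_extStr b i)).trans ?_
    exact (lf_extStr (i ≫ b) ξ).trans (lf_extStr b (pushPt b i ξ)).symm

/-- Restriction to `K`-points. -/
theorem toPt_pushPt (ξ : KPt K (i ≫ b)) (x : HM (EtLam.pullback (FinFr.extπ K b) L) n) :
    toPt b L n (pushPt b i ξ) x =
      chgHM ξ.1 i (pushPt b i ξ).1 rfl L n (toPt (i ≫ b) (EtLam.pullback i L) n ξ (resP b i L n x)) := by
  unfold toPt
  have hw : lf (i ≫ b) ξ ≫ FinFr.extπ K (i ≫ b) ≫ i = (pushPt b i ξ).1 := by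
    rw [← Category.assoc]
    exact congrArg (· ≫ i) (lf_extπ (i ≫ b) ξ)
  have h1 := viaHM_chg_apply (lf (i ≫ b) ξ) (FinFr.extπ K (i ≫ b)) i ξ.1
    (FinFr.extπ K (i ≫ b) ≫ i) (pushPt b i ξ).1 (lf_extπ (i ≫ b) ξ) rfl hw rfl L n (resP b i L n x)
  rw [← h1, ← chgE_apply, chgE_resP]
  unfold toM
  exact (viaHM_comp_apply (lf (i ≫ b) ξ) (iK b i) (lf b (pushPt b i ξ))
    (pushPt b i ξ).1 (FinFr.extπ K (i ≫ b) ≫ i) (FinFr.extπ K b) (lf_iK b i ξ) hw (iK_extπ b i)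
    (lf_extπ b (pushPt b i ξ)) L n x).symm

end Groth.Agent.Sga4h.H146.FinRes
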